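import Cfsg.Agent.Lib.E8.Half2
import Cfsg.Agent.Lib.Core.MixA
import Cfsg.Agent.Lib.GW.Basic

/-!
# Groups whose nontrivial `{p, q}`-subgroups have maximal normalizers: tools
-/

set_option autoImplicit false
set_option linter.unusedSectionVars false

namespace Cfsg.Agent.MN

open Subgroup Cfsg.Agent.Coprime Cfsg.Agent.OO Cfsg.Agent.E8
open scoped Pointwise commutatorElement

universe u

/-- Every nontrivial `{p, q}`-subgroup has a maximal normalizer. -/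
def Hyp (G : Type u) [Group G] : Prop :=
  ∀ (H : Subgroup G) (p q : ℕ), p.Prime → q.Prime → H ≠ ⊥ → PiGrp {p, q} H → IsCoatom 𝐍(H)

variable {G : Type u} [Group G] [Finite G] {U V Q T W Y : Subgroup G} {p q : ℕ} {t s y d : G}

theorem syl_sup [Fact p.Prime] [Fact q.Prime] (hU : IsPGroup p U) (hQ : IsPGroup q Q) (hpq : p ≠ q)
    (hn : U ≤ 𝐍(Q) ∨ Q ≤ 𝐍(U)) : Syl p U (U ⊔ Q) :=
  ⟨le_sup_left, hU, fun e => by
    rw [relIndex_sup_eq' hn] at e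
    exact (piGrp_compl_singleton Fact.out).1 (piGrp_compl_of_isPGroup hQ hpq.symm)
      (e.trans (relIndex_dvd_card _ _))⟩

theorem cent1_eq_norm (t2 : t * t = 1) : 𝐂[t] = 𝐍(zpowers t) := by
  refine le_antisymm (cent_zpowers t ▸ cent_le_norm _) fun g hg => ?_
  by_cases t1 : t = 1
  · simp [t1]
  exact mem_cent1_iff_conj.2 (eq_of_mem_zpowers t2 (conj_mem_of_norm hg (mem_zpowers t))
    (BSW.conj_ne_one t1))

theorem isP_inv (t2 : t * t = 1) : IsPGroup 2 (zpowers t) :=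
  abelem_isPGroup (abelem_zpowers (by rwa [pow_two]))

theorem isP_zp (h : orderOf y = p) : IsPGroup p (zpowers y) :=
  isPGroup_of_card_prime_pow (n := 1) (by rw [Nat.card_zpowers, h, pow_one])

theorem zp_ne (h : y ≠ 1) : zpowers y ≠ ⊥ := zpowers_ne_bot.2 h

theorem ne_one_of_prime (h : (orderOf y).Prime) : y ≠ 1 := fun e => by
  rw [e, orderOf_one] at h; exact Nat.not_prime_one h

/-- an element whose square centralizes `y` centralizes or inverts it -/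
theorem conj_eq_or (hy : (orderOf y).Prime) (hs : s ∈ 𝐍(zpowers y)) (s2 : s * s = 1) :
    s * y * s⁻¹ = y ∨ s * y * s⁻¹ = y⁻¹ := by
  have h1 := conj_mem_of_norm hs (mem_zpowers y)
  refine or_iff_not_imp_right.2 fun e => mem_cent1_iff_conj.1 (mem_cent1_comm.1 ?_)
  have h2 := eq_zpowers_of_prime (x := y * (s * y * s⁻¹)) (by rwa [Nat.card_zpowers])
    (mul_mem (mem_zpowers y) h1) fun e' => e (eq_inv_of_mul_eq_one_right e')
  refine (h2.ge.trans (zpowers_le.2 (mem_cent1_comm.1 (mem_cent1_iff_conj.2 ?_)))) (mem_zpowers y)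
  rw [← conj_mul, ab_iff.1 (ab_of_isCyclic inferInstance) _ (mem_zpowers y) _ h1,
    show s * (s * y * s⁻¹) * s⁻¹ = s * s * y * (s * s)⁻¹ by group, s2, one_mul, inv_one, mul_one]

theorem exists_odd_prime (h : ¬ IsPGroup 2 W) : ∃ y ∈ W, (orderOf y).Prime ∧ orderOf y ≠ 2 := by
  obtain ⟨r, hr, h1, h2⟩ := exists_prime_not_mem (mt isPGroup_iff_piGrp.2 h)
  obtain ⟨y, hy, rfl⟩ := cauchy hr h1
  exact ⟨y, hy, hr, h2⟩

theorem not_mem_of_two (h : IsPGroup 2 W) (hy : (orderOf y).Prime) (h2 : orderOf y ≠ 2) : y ∉ W :=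
  fun e => h2 ((piGrp_singleton h).piElt e _ hy dvd_rfl)

namespace Hyp

variable (h : Hyp G) [hp : Fact p.Prime] [hq : Fact q.Prime]
include h

theorem coatom (hU : IsPGroup p U) (h0 : U ≠ ⊥) : IsCoatom 𝐍(U) :=
  h U p p hp.out hp.out h0 (piGrp_of_isPGroup hU (.inl rfl))

theorem norm_eq (hU : IsPGroup p U) (h0 : U ≠ ⊥) (hV : IsPGroup q V) (h1 : V ≠ ⊥)
    (hle : 𝐍(U) ≤ 𝐍(V)) : 𝐍(V) = 𝐍(U) :=
  ((h.coatom hU h0).le_iff_eq (h.coatom hV h1).1).1 hle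

theorem le_norm_sup (hU : IsPGroup p U) (h0 : U ≠ ⊥) (hQ : IsPGroup q Q) (hpq : p ≠ q)
    (hn : Q ≤ 𝐍(U)) : 𝐍(U) ≤ 𝐍(U ⊔ Q) :=
  (((h _ p q hp.out hq.out (fun e => h0 (le_bot_iff.1 (le_sup_left.trans e.le)))
    ((piGrp_of_isPGroup hU (.inl rfl)).sup (piGrp_of_isPGroup hQ (.inr rfl)) (.inr hn))).le_iff_eq
    (h.coatom hU h0).1).1 ((syl_sup hU hQ hpq (.inr hn)).norm_le_norm_of_normal
      (sup_le (le_norm_self _) hn))).le

theorem comm_le (hU : IsPGroup p U) (h0 : U ≠ ⊥) (hQ : IsPGroup q Q) (hpq : p ≠ q)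
    (hn : Q ≤ 𝐍(U)) (hT : IsPGroup p T) (h2 : T ≤ 𝐍(U)) (h3 : Q ≤ 𝐍(T)) : ⁅T, Q⁆ ≤ U :=
  (syl_sup hU hQ hpq (.inr hn)).le_of_normal_syl (sup_le (le_norm_self _) hn)
    ((commutator_mono le_rfl le_sup_right).trans
      (commutator_le_right' (h2.trans (h.le_norm_sup hU h0 hQ hpq hn))))
    (hT.to_le (commutator_le_left' h3))

theorem norm_eq_of_cent (hU : IsPGroup p U) (h0 : U ≠ ⊥) (hQ : IsPGroup q Q) (h1 : Q ≠ ⊥)
    (hpq : p ≠ q) (hc : Q ≤ 𝐂(U)) : 𝐍(Q) = 𝐍(U) :=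
  h.norm_eq hU h0 hQ h1 ((h.le_norm_sup hU h0 hQ hpq (le_norm_of_le_cent hc)).trans (by
    rw [sup_comm]
    exact (syl_sup hQ hU hpq.symm (.inl (le_norm_of_le_cent hc))).norm_le_norm_of_normal
      (sup_le (le_norm_self _) (le_norm_of_le_cent (le_cent_symm hc)))))

theorem le_norm (hU : IsPGroup p U) (h0 : U ≠ ⊥) (hW : IsPGroup q W) (hpq : p ≠ q)
    (hn : W ≤ 𝐍(U)) (hV : V ≤ W) : W ≤ 𝐍(V) := by
  have h1 := le_norm_inf (hn.trans (h.le_norm_sup hU h0 (hW.to_le hV) hpq (hV.trans hn)))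
    (le_norm_self W)
  rwa [sup_inf_of_le_right (.inr (hV.trans hn)) hV,
    inf_eq_bot_of_coprime_card (coprime_of_isPGroup_ne hU hW hpq), bot_sup_eq] at h1

theorem self_norm (hU : IsPGroup p U) (h0 : U ≠ ⊥) : 𝐍(𝐍(U)) ≤ 𝐍(U) :=
  (norm_le_norm_Op p _).trans (h.norm_eq hU h0 (Op_isPGroup _ _) (fun e => h0 (le_bot_iff.1
    ((le_Op (normalIn_norm U) hU).trans e.le))) (Op_normal p _).norm).le

theorem coatom_cent (t1 : t ≠ 1) (t2 : t * t = 1) : IsCoatom 𝐂[t] :=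
  cent1_eq_norm t2 ▸ h.coatom (isP_inv t2) (zp_ne t1)

theorem self_norm_cent (t1 : t ≠ 1) (t2 : t * t = 1) : 𝐍(𝐂[t]) ≤ 𝐂[t] :=
  cent1_eq_norm t2 ▸ h.self_norm (isP_inv t2) (zp_ne t1)

theorem norm_eq_cent (t1 : t ≠ 1) (t2 : t * t = 1) (hy : (orderOf y).Prime) (h2 : orderOf y ≠ 2)
    (hc : y ∈ 𝐂[t]) : 𝐍(zpowers y) = 𝐂[t] := by
  have := Fact.mk hy
  rw [cent1_eq_norm t2]
  exact h.norm_eq_of_cent (isP_inv t2) (zp_ne t1) (isP_zp rfl) (zp_ne (ne_one_of_prime hy)) h2.symm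
    (by rwa [cent_zpowers, zpowers_le])

/-- the involutions of a 2-subgroup of a centralizer which is not a 2-group are central -/
theorem le_cent (hy : (orderOf y).Prime) (h2 : orderOf y ≠ 2) (hW : IsPGroup 2 W)
    (hn : W ≤ 𝐍(zpowers y)) (hs : s ∈ W) (s2 : s * s = 1) : W ≤ 𝐂[s] := by
  have := Fact.mk hy
  rw [cent1_eq_norm s2]
  exact h.le_norm (isP_zp rfl) (zp_ne (ne_one_of_prime hy)) hW h2 hn (zpowers_le.2 hs)

end Hyp

/-- A self-centralizing elementary abelian 2-group with an odd automizer. -/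
structure Tb (T : Subgroup G) (d : G) : Prop where
  sq : ∀ t ∈ T, t * t = 1
  ne : T ≠ ⊥
  cent : 𝐂(T) ≤ T
  prime : (orderOf d).Prime
  odd : orderOf d ≠ 2
  norm : d ∈ 𝐍(T)

theorem Tb.ab (h : Tb T d) : Ab T := BSW.comm_of_mul_self h.sq

theorem Tb.isP (h : Tb T d) : IsPGroup 2 T :=
  abelem_isPGroup ⟨h.ab, fun t ht => (pow_two t).trans (h.sq t ht)⟩

theorem Hyp.exists_tb (h : Hyp G) (hn : ¬ PNil 2 (⊤ : Subgroup G)) : ∃ (T : Subgroup G) (d : G), Tb T d := by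
  obtain ⟨T, -, hT⟩ := Mix.exists_of_not_pnil hn
  obtain ⟨T, -, ⟨hT, r, hr, r2, Q, -, hQ, hn, hc⟩, hm⟩ := Finite.exists_le_maximal
    (p := fun T : Subgroup G => IsPGroup 2 T ∧ ∃ r : ℕ, r.Prime ∧ r ≠ 2 ∧ ∃ Y ≤ (⊤ : Subgroup G), IsPGroup r Y ∧
      Y ≤ 𝐍(T) ∧ ¬ Y ≤ 𝐂(T)) hT
  have := Fact.mk hr
  have h0 : T ≠ ⊥ := by rintro rfl; simp at hc
  have h1 : IsElementaryAbelian 2 T := (Phi_eq_bot_iff hT).1 (by_contra fun e =>
    hc (coprime_cent_Phi hT hn (coprime_of_isPGroup_ne hT hQ r2.symm) (h.comm_le (hT.to_le (Phi_le T))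
      e hQ r2.symm (le_norm_Phi hn) hT (Phi_normal T).norm hn)))
  have sq : ∀ t ∈ T, t * t = 1 := fun t ht => (pow_two t).symm.trans (h1.2 t ht)
  have h2 : IsPGroup 2 𝐂(T) := by_contra fun e => hc (le_cent_symm fun t ht => by
    obtain ⟨y, hy, y1, y2⟩ := exists_odd_prime e
    have := Fact.mk y1
    by_cases t1 : t = 1
    · exact t1 ▸ one_mem _
    rw [← le_cent1_iff, ← h.norm_eq_cent t1 (sq t ht) y1 y2 (cent_le_cent1 ht hy),
      h.norm_eq_of_cent hT h0 (isP_zp rfl) (zp_ne (ne_one_of_prime y1)) y2.symm (zpowers_le.2 hy)]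
    exact hn)
  obtain ⟨d, hd, d1⟩ := exists_prime_order_mem (H := Q) (by rintro rfl; simp at hc)
  exact ⟨T, d, sq, h0, hm ⟨h2, r, hr, r2, Q, le_top, hQ, le_norm_cent hn, fun e =>
    hc (e.trans (cent_anti (Ab.le_cent h1.1)))⟩ (Ab.le_cent h1.1), d1,
    fun e => r2 (((piGrp_singleton hQ).piElt hd _ d1 dvd_rfl).symm.trans e), hn hd⟩

/-- elements of odd prime order of `N(T)` act without fixed points -/
theorem Tb.fpf (h : Hyp G) (hT : Tb T d) (hy : (orderOf y).Prime) (h2 : orderOf y ≠ 2)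
    (hn : y ∈ 𝐍(T)) (ht : t ∈ T) (hc : y ∈ 𝐂[t]) : t = 1 := by
  by_contra t1
  have := Fact.mk hy
  refine not_mem_of_two hT.isP hy h2 (hT.cent (zpowers_le.1 (le_cent_of_coprime (zpowers_le.2 hn) ?_
    (coprime_of_isPGroup_ne (isP_zp rfl) hT.isP h2))))
  rw [h.norm_eq_cent t1 (hT.sq t ht) hy h2 hc]
  exact hT.ab.le_cent.trans (cent_le_cent1 ht)

end Cfsg.Agent.MN
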