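import Cfsg.Agent.Lib.MN.Two
import Cfsg.Agent.Lib.GW.Red
import Cfsg.Agent.Lib.E8.Ico
import Cfsg.Agent.Lib.E8.Dickson
import Cfsg.Agent.Lib.BR.Red
import Cfsg.Agent.Lib.Core.Ord1092
import Cfsg.Agent.Lib.CIT.PSL2

/-!
# Groups whose nontrivial `{p, q}`-subgroups have maximal normalizers: `PSL(2, 13)`
-/

set_option autoImplicit false
set_option linter.unusedSectionVars false

namespace Cfsg.Agent.MN

open Subgroup Cfsg.Agent.Coprime Cfsg.Agent.OO Cfsg.Agent.E8 Cfsg.Agent.Lin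
open scoped Pointwise commutatorElement MatrixGroups

universe u

variable {G : Type u} [Group G] [Finite G] {t s ρ d : G}

theorem Hyp.simple (h : Hyp G) (hR : ∀ N : Subgroup G, N.Normal → Sol N → N = ⊥) [Nontrivial G] :
    IsSimpleGroup G ∧ ¬ 8 ∣ Nat.card G := by
  obtain ⟨t, s, ρ, hV, hC⟩ := h.exists_v4 fun e => top_ne_bot (hR _ inferInstance e)
  refine ⟨⟨fun N hN => or_iff_not_imp_left.2 fun e => ?_⟩, card_top (G := G) ▸ hV.not_dvd⟩
  have h1 := hV.le_of_normal (normalIn_top.2 hN) fun e' => e (hR N hN (GW.sol_of_odd e'))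
  have h2 := hV.pair.mono' h1 le_top
  obtain ⟨ρ', h3⟩ := h2.sdprod_or.resolve_left fun e' => e (hR N hN (h2.sol_of_sdprod e'))
  rw [← (h3.isProd (normalIn_top.2 hN) hV.not_dvd).sup_eq, top_inf_eq, eq_comm, sup_eq_left]
  exact hC.trans h1

theorem Hyp.card_cent (h : Hyp G) (hn : ¬ Sol (⊤ : Subgroup G)) :
    ∃ r : ℕ, r.Prime ∧ r ≠ 2 ∧ (∀ e : G, e ≠ 1 → e * e = 1 → ♯𝐂[e] = 4 * r) ∧
      ∃ e : G, e ≠ 1 ∧ e * e = 1 ∧ ¬ IsCyclic 𝐂[e] := by
  obtain ⟨t, s, ρ, hV, hC⟩ := h.exists_v4 hn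
  have hp := hV.pair
  have hS := hp.syl
  have h0 : GW.S4 t s ≠ ⊥ := fun e => hp.t_ne (e.le (GW.t_mem_S4 t s))
  obtain ⟨y, hy, y1, y2⟩ := exists_odd_prime (W := 𝐂[t]) fun e => hp.ne ((mem_cent1_iff_conj.1
    ((((h.coatom_cent hp.t_ne hp.t_sq).le_iff_eq (h.coatom hS.isPGroup h0).1).1 ((hS.eq_of_le
      hp.le_cent le_top e).le.trans (le_norm_self _))).le hV.mem_norm)).symm.trans hV.ρt)
  have := Fact.mk y1
  have hN := h.norm_eq_cent hp.t_ne hp.t_sq y1 y2 hy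
  have h1 : GW.S4 t s ≤ 𝐍(zpowers y) := hN ▸ hp.le_cent
  have h2 := ((syl_sup hS.isPGroup (isP_zp rfl) y2.symm (.inl h1)).frattini
    ⟨sup_le h1 (le_norm_self _), sup_comm _ (GW.S4 t s) ▸ h.le_norm_sup (isP_zp rfl)
      (zp_ne (ne_one_of_prime y1)) hS.isPGroup y2 h1⟩).sup_eq
  rw [hN, sup_eq_left.2 (le_sup_of_le_left fun g hg =>
    hC ⟨hg.1, hp.mem_cent_of_norm trivial hg.2 hg.1⟩)] at h2
  refine ⟨_, y1, y2, fun e e1 e2 => ?_, t, hp.t_ne, hp.t_sq, fun e => ?_⟩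
  · obtain ⟨g, -, rfl⟩ := hV.exists_conj trivial e1 e2
    rw [cent1_conj, card_conj, ← h2, card_sup_of_inf_eq_bot (.inl h1) (inf_eq_bot_of_coprime_card
      (coprime_of_isPGroup_ne hS.isPGroup (isP_zp rfl) y2.symm)), hp.card, Nat.card_zpowers]
  · obtain ⟨x, hx⟩ := exists_zpowers_eq (isCyclic_of_le' e hp.le_cent)
    have h3 := hp.card
    rw [← hx, Nat.card_zpowers] at h3
    exact absurd (h3 ▸ orderOf_dvd_of_pow_eq_one (hp.isEp.abelem.2 x (hx ▸ mem_zpowers x))) (by decide)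

theorem Hyp.cent_three [IsSimpleGroup G] (h : Hyp G) (hd : orderOf d = 3) (ha : Ab 𝐂[d])
    (hi : ∀ e : G, e ≠ 1 → e * e = 1 → d ∉ 𝐂[e]) : 𝐂[d] ≤ zpowers d := by
  have := Fact.mk Nat.prime_three
  have d1 := ne_one_of_prime (hd ▸ Nat.prime_three)
  have hc : 𝐂[d] ≤ 𝐍(zpowers d) := cent_zpowers d ▸ cent_le_norm _
  by_cases h2 : 2 ∣ ♯𝐍(zpowers d)
  · obtain ⟨e, he, e0⟩ := cauchy Nat.prime_two h2
    have e1 := ne_one_of_prime (e0 ▸ Nat.prime_two)
    have e2 : e * e = 1 := by rw [← pow_two, ← e0, pow_orderOf_eq_one]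
    replace he := zpowers_le.2 he
    have h4 : 𝐂[d] ⊓ 𝐂[e] = ⊥ := by_contra fun e' => by
      obtain ⟨v, hv, v1⟩ := exists_prime_order_mem e'
      by_cases v2 : orderOf v = 2
      · exact hi v (ne_one_of_prime v1) (by rw [← pow_two, ← v2, pow_orderOf_eq_one])
          (mem_cent1_comm.1 hv.1)
      · exact hi e e1 e2 (h.norm_eq_cent e1 e2 v1 v2 hv.2 ▸ cent_le_norm _
          (cent_zpowers v ▸ mem_cent1_comm.1 hv.1))
    have h5 := (syl_sup (isP_inv e2) (isP_zp hd) (by decide) (.inl he)).frattini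
      ⟨sup_le he (le_norm_self _), sup_comm _ (zpowers e) ▸
        h.le_norm_sup (isP_zp hd) (zp_ne d1) (isP_inv e2) (by decide) he⟩
    rw [← cent1_eq_norm e2, sup_comm] at h5
    intro c hc'
    obtain ⟨k, hk, w, hw, rfl⟩ := h5.mem_iff.1 (hc hc')
    obtain ⟨δ, hδ, ε, hε, rfl⟩ := (mem_sup_norm_left he).1 hk
    rw [mul_assoc] at hc' ⊢
    rwa [mem_bot.1 (h4.le ⟨(mul_mem_cancel_left (zpowers_le.2 (mem_cent1_self d) hδ)).1 hc',
      mul_mem (zpowers_le.2 (mem_cent1_self e) hε) hw.2⟩), mul_one]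
  exfalso
  have h3 : 𝐂[d].relIndex 𝐍(zpowers d) ≤ 2 := relIndex_le_two fun g hg =>
    eq_or_of_three hd (conj_mem_of_norm hg (mem_zpowers d)) (BSW.conj_ne_one d1)
  have h4 : 𝐂[d].relIndex 𝐍(zpowers d) ≠ 2 := fun e => h2 (e ▸ relIndex_dvd_card _ _)
  have h5 := relIndex_pos 𝐂[d] 𝐍(zpowers d)
  replace ha := ab_of_le ha (relIndex_eq_one.1 (by omega) : 𝐍(zpowers d) ≤ 𝐂[d])
  obtain ⟨P, hP, h6⟩ := exists_syl_ge (le_norm_self _) (isP_zp hd)
  have h7 : P ≠ ⊥ := fun e => zp_ne d1 (le_bot_iff.1 (h6.trans e.le))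
  have h8 := h.norm_eq (isP_zp hd) (zp_ne d1) hP.isPGroup h7 (le_norm_of_ab ha hP.le)
  have h9 := Burnside_normal_complement (IsSylowIn.of_syl_norm le_top (by rwa [top_inf_eq, h8]))
    (by rw [top_inf_eq, h8]; exact ha.le_cent.trans (cent_anti hP.le))
  rcases (normalIn_top.1 h9.normal).eq_bot_or_eq_top with e | e
  · exact (h.coatom hP.isPGroup h7).1 (top_le_iff.1 ((h9.right_eq_iff.2 e).ge.trans (le_norm_self P)))
  · exact h7 (h9.left_eq_iff.1 e)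

section
variable {F : Type} [Field F] [Fintype F]

theorem cent_psl (h2 : (2 : F) ≠ 0) (p : ℕ) [CharP F p] {u : PSL(2, F)} (h : u * u ≠ 1) :
    Ab 𝐂[u] ∧ (u ^ (2 * p) = 1 ∨ 2 * ♯𝐂[u] = Fintype.card F - 1 ∨ 2 * ♯𝐂[u] = Fintype.card F + 1) := by
  obtain ⟨x, rfl⟩ := QuotientGroup.mk_surjective u
  have hx : x ∉ center SL(2, F) := fun e => h (by rw [(QuotientGroup.eq_one_iff x).2 e, one_mul])
  rw [CIT.cent_eq_map (.inl (mul_ne_zero h2 fun e => h ((QuotientGroup.eq_one_iff (x * x)).2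
    (SL2.mem_center_iff_scalar.2 ⟨-1, by
      rw [CIT.val_mul, SL2.mul_self, e, map_neg, map_one]; simp⟩))))]
  refine ⟨ab_map (ab_iff.2 fun a ha b hb => SL2.commute_of_commute hx (mem_cent1.1 ha)
    (mem_cent1.1 hb)) _,
    or_iff_not_imp_left.2 fun e => ?_⟩
  have h4 := card_mul_relIndex (center_le_centralizer ({x} : Set SL(2, F)))
  rw [card_center_SL2' h2] at h4
  rw [← relIndex_ker, QuotientGroup.ker_mk', h4]
  exact SL2.card_centralizer h2 fun e' => e (congrArg (QuotientGroup.mk' _) (SL2.pow_eq_one_of_trace p e'))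

theorem Hyp.ne_eleven (h : Hyp PSL(2, F)) : Fintype.card F ≠ 11 := fun hq => by
  have := Fact.mk Nat.prime_five
  have hp : CharP F 11 := charP_of_card_eq_prime (p := 11) (hp := ⟨by norm_num⟩) hq
  have h2 : (2 : F) ≠ 0 := fun e => absurd ((CharP.cast_eq_zero_iff F 11 2).1 e) (by decide)
  have h1 := BR.card_PSL2 h2
  rw [hq, ← card_top] at h1
  obtain ⟨H, hH⟩ := exists_sixty' (F := F) (by rw [hq]) (by rw [← card_top]; omega)
  obtain ⟨y, hy, y5⟩ := cauchy Nat.prime_five (hH ▸ by decide : 5 ∣ ♯H)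
  have h3 : ∀ k, y ^ k = 1 → 5 ∣ k := fun k e => y5 ▸ orderOf_dvd_of_pow_eq_one e
  have h4 := (cent_psl h2 11 (u := y) fun e => absurd (h3 2 (by rwa [pow_two])) (by decide)).2.resolve_left
    fun e => absurd (h3 _ e) (by decide)
  have h5 := y5 ▸ OO.orderOf_dvd_card (mem_cent1_self y)
  have c5 : ♯(zpowers y) = 5 := by rw [Nat.card_zpowers, y5]
  have h6 := Nat.le_of_dvd (by decide) (relIndex_centralizer_normalizer_dvd_of_card_eq_prime c5)
  have h7 := card_mul_relIndex (cent_le_norm (zpowers y))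
  rw [cent_zpowers] at h6 h7
  have hs : ∀ K : Subgroup PSL(2, F), y ∈ K → ¬ 25 ∣ ♯K → Syl 5 (zpowers y) K := fun K hK e =>
    ⟨zpowers_le.2 hK, isP_zp y5, fun e' => e (by
      rw [← card_mul_relIndex (zpowers_le.2 hK), c5]; exact Nat.mul_dvd_mul_left 5 e')⟩
  obtain ⟨n, n1, n2⟩ := Ord1092.exists_count (hs ⊤ trivial (by omega))
  obtain ⟨m, m1, m2⟩ := Ord1092.exists_count (hs H hy (by omega))
  rw [inf_top_eq] at n2
  have h8 := card_le (inf_le_left : 𝐍(zpowers y) ⊓ H ≤ _)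
  have h9 := c5 ▸ card_dvd (le_inf (le_norm_self _) (zpowers_le.2 hy))
  have h10 : ♯𝐍(zpowers y) = 10 := by
    rw [← h7, show ♯𝐂[y] = 5 by omega] at n2 ⊢
    generalize 𝐂[y].relIndex 𝐍(zpowers y) = k at *
    interval_cases k <;> omega
  have h11 : ♯(𝐍(zpowers y) ⊓ H) = 10 := by
    obtain ⟨k, hk⟩ := h9
    rw [hk] at m2 h8 ⊢
    have : k ≤ 2 := by omega
    interval_cases k <;> omega
  have h12 := ((h.coatom (isP_zp y5) (zp_ne (ne_one_of_prime (y5 ▸ Nat.prime_five)))).le_iff_eq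
    (b := H) fun e => by rw [e] at hH; omega).1
    (inf_eq_left.1 (eq_of_le_of_card_le inf_le_left (h10.trans h11.symm).le))
  rw [← h12] at h10
  omega

theorem Hyp.card_eq [IsSimpleGroup PSL(2, F)] (h : Hyp PSL(2, F))
    (hn : ¬ Sol (⊤ : Subgroup PSL(2, F))) (h5 : 5 ≤ Fintype.card F)
    (h8 : Fintype.card F % 8 = 3 ∨ Fintype.card F % 8 = 5) : Fintype.card F = 13 := by
  obtain ⟨p, hp⟩ := CharP.exists F
  obtain ⟨n, p1, hq⟩ := FiniteField.card F p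
  have h2 : (2 : F) ≠ 0 := fun e => by
    have := dvd_pow ((Nat.prime_dvd_prime_iff_eq p1 Nat.prime_two).1
      ((CharP.cast_eq_zero_iff F p 2).1 e)).symm.dvd n.ne_zero
    omega
  obtain ⟨r, hr, r2, hc, t, t1, t2, ht⟩ := h.card_cent hn
  obtain ⟨K, K1, K2, -, K3, K4⟩ := CIT.cent_inv h2 t1 t2
  have K5 : K ≤ 𝐂[t] := (ab_of_isCyclic K1).le_cent.trans (cent_le_cent1 K2)
  obtain ⟨a, ha, a1⟩ := SetLike.not_le_iff_exists.1 fun e : 𝐂[t] ≤ K => ht (isCyclic_of_le' K1 e)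
  have K6 := card_mul_relIndex K5
  rw [hc t t1 t2, relIndex_eq_two_iff.2 ⟨a, ha, fun b hb => by
    by_cases e : b ∈ K
    · exact .inr ⟨e, fun e' => a1 ((mul_mem_cancel_left e).1 e')⟩
    · exact .inl ⟨K4 b hb a ha e a1, e⟩⟩] at K6
  have h11 := h.ne_eleven
  by_contra h13
  have r3 : r ≠ 3 := by omega
  have h1 := BR.card_PSL2 h2
  obtain ⟨d, -, hd⟩ := cauchy (H := (⊤ : Subgroup PSL(2, F))) Nat.prime_three (by
    rw [card_top]
    refine (Nat.Coprime.dvd_mul_left (by decide : Nat.Coprime 3 2)).1 (h1 ▸ ?_)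
    have : 3 ∣ Fintype.card F ∨ 3 ∣ Fintype.card F - 1 ∨ 3 ∣ Fintype.card F + 1 := by omega
    rcases this with e | e | e
    exacts [e.mul_right _, (e.mul_right _).mul_left _, (e.mul_left _).mul_left _])
  have h3 : ∀ k, d ^ k = 1 → 3 ∣ k := fun k e => hd ▸ orderOf_dvd_of_pow_eq_one e
  obtain ⟨c1, c2⟩ := cent_psl h2 p (u := d) fun e => absurd (h3 2 (by rwa [pow_two])) (by decide)
  have h4 := le_antisymm (h.cent_three hd c1 fun e e1 e2 he => r3 ((Nat.prime_dvd_prime_iff_eq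
    Nat.prime_three hr).1 ((Nat.Coprime.dvd_mul_left (by decide : Nat.Coprime 3 4)).1
      (hd ▸ hc e e1 e2 ▸ OO.orderOf_dvd_card he))).symm) (zpowers_le.2 (mem_cent1_self d))
  have := hr.two_le
  rw [h4, Nat.card_zpowers, hd] at c2
  obtain rfl : 3 = p := (Nat.prime_dvd_prime_iff_eq Nat.prime_three p1).1
    ((Nat.Coprime.dvd_mul_left (by decide : Nat.Coprime 3 2)).1 (h3 _ (c2.resolve_right (by omega))))
  have := Fact.mk Nat.prime_three
  obtain ⟨P, hP, h6⟩ := exists_syl_ge le_top (isP_zp hd)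
  obtain ⟨z, hz, z1⟩ := exists_mem_ne_one (Zc_ne_bot hP.nil fun e =>
    zp_ne (ne_one_of_prime (hd ▸ Nat.prime_three)) (le_bot_iff.1 (h6.trans e.le)))
  have h7 := eq_zpowers_of_prime (by rw [Nat.card_zpowers, hd]; exact Nat.prime_three)
    (h4.le (cent_le_cent1 (h6 (mem_zpowers d)) (Zc_le_cent _ hz))) z1
  have h9 : P ≤ zpowers d := by
    rw [← h4, ← cent_zpowers, ← h7, cent_zpowers, le_cent1_iff]; exact Zc_le_cent _ hz
  refine hP.not_dvd ((Nat.mul_dvd_mul_iff_left (by decide : 0 < 3)).1 ?_)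
  rw [← hd, ← Nat.card_zpowers, ← le_antisymm h9 h6, card_mul_relIndex le_top, card_top,
    le_antisymm h9 h6, Nat.card_zpowers, hd]
  refine (Nat.Coprime.dvd_mul_left (by decide : Nat.Coprime 9 2)).1 (h1 ▸ Dvd.dvd.mul_right ?_ _)
  rw [hq] at h5 ⊢
  exact pow_dvd_pow 3 (show 2 ≤ (n : ℕ) from by_contra fun e => by
    have : (n : ℕ) ≤ 1 := by omega
    have := Nat.pow_le_pow_right (by decide : 0 < 3) this
    omega)

theorem psl_congr {F' : Type} [Field F'] (e : F ≃+* F') : Nonempty (PSL(2, F) ≃* PSL(2, F')) := by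
  let f : SL(2, F) ≃* SL(2, F') := MonoidHom.toMulEquiv (Matrix.SpecialLinearGroup.map e.toRingHom)
    (Matrix.SpecialLinearGroup.map e.symm.toRingHom) (by ext; simp) (by ext; simp)
  exact ⟨QuotientGroup.congr _ _ f (by
    rw [← Zc_top, ← Zc_top, map_Zc (f := (f : SL(2, F) →* SL(2, F'))) f.injective,
      map_top_of_surjective (f : SL(2, F) →* SL(2, F')) f.surjective])⟩

end

end Cfsg.Agent.MN
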