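import Cfsg.Agent.Lib.MN.PSL
import Cfsg.Agent.Lib.Core.Subnormal
import Cfsg.Agent.Lib.PGrp.Dedekind

/-!
# Groups whose non-subnormal `{p, q}`-subgroups have maximal normalizers
-/

set_option autoImplicit false
set_option linter.unusedSectionVars false

namespace Cfsg.Agent.MN

open Subgroup Cfsg.Agent.Coprime Cfsg.Agent.OO Cfsg.Agent.E8
open scoped Pointwise commutatorElement MatrixGroups

universe u v

/-- The hypothesis, with an epimorphism whose kernel is the solvable radical. -/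
structure Ext {G : Type u} [Group G] {L : Type v} [Group L] (f : G →* L) : Prop where
  max : ∀ H : Subgroup G, ¬ H.IsSubnormal →
    (∃ p q : ℕ, p.Prime ∧ q.Prime ∧ ∀ r : ℕ, r.Prime → r ∣ Nat.card H → r = p ∨ r = q) →
    IsCoatom 𝐍(H)
  surj : Function.Surjective f
  ker : f.ker = solvableRadical G

variable {G : Type u} [Group G] [Finite G] {L : Type v} [Group L] [Finite L] {f : G →* L}
  {H K A P : Subgroup G} {p q : ℕ} {x y z : G}

theorem pow_mem_der (hz : z ∈ Zc K) (hc : z ∈ der K) (P : Subgroup G) :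
    z ^ P.relIndex K ∈ der P := by
  have hz' : (⟨z, hz.1⟩ : K) ∈ center K := mem_center_iff.2 fun g => Subtype.ext ((mem_Zc.1 hz).2 g g.2)
  let ϕ : P.subgroupOf K →* Abelianization P := Abelianization.of.comp
    ((K.subtype.comp (P.subgroupOf K).subtype).codRestrict P fun x => x.2)
  have h1 := MonoidHom.transfer_eq_pow ϕ ⟨z, hz.1⟩ fun k g _ => by
    rw [mul_assoc, ← mem_center_iff.1 (pow_mem hz' k) g, inv_mul_cancel_left]
  obtain ⟨y, hy, rfl⟩ := der_eq_map K ▸ hc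
  have h2 := Abelianization.commutator_subset_ker (MonoidHom.transfer ϕ) hy
  rw [MonoidHom.mem_ker] at h2
  rw [der_eq_map]
  exact ⟨_, (QuotientGroup.eq_one_iff _).1 (h1.symm.trans h2), rfl⟩

theorem exists_lift (hK : K.map f = ⊤) {π : Set ℕ} {y : L} (hy : PiElt π y) :
    ∃ x ∈ K, f x = y ∧ PiElt π x := by
  obtain ⟨x, hx, rfl⟩ := hK.ge (mem_top y)
  exact ⟨_, constt_mem π hx, (map_constt f π x).trans (constt_eq_self hy), piElt_constt π x⟩

namespace Ext

variable (h : Ext f)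
include h

theorem sol : Sol f.ker := h.ker ▸ Core.isSolvable_solvableRadical

theorem norm_eq (hp : p.Prime) (hq : q.Prime) (hH : PiGrp {p, q} H) (hn : ¬ H ≤ f.ker) :
    IsCoatom 𝐍(H) ∧ (𝐍(H.map f)).comap f = 𝐍(H) := by
  have hs : Sol H := Char.solvable_of_two_primes hp hq hH
  have h1 := h.max H (fun e => hn (h.ker ▸ Core.le_solvableRadical_of_isSubnormal e hs))
    ⟨p, q, hp, hq, hH⟩
  refine ⟨h1, (h1.le_iff_eq fun e => hn ?_).1 (map_le_iff_le_comap.1 (map_norm_le f H))⟩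
  rw [comap_normalizer_eq_of_surjective _ h.surj, normalizer_eq_top_iff, comap_map_eq] at e
  exact le_sup_left.trans ((Core.le_solvableRadical
    (sol_sup le_normalizer_of_normal hs h.sol)).trans h.ker.ge)

theorem mem_norm (hp : p.Prime) (hq : q.Prime) (hH : PiGrp {p, q} H) (hn : ¬ H ≤ f.ker)
    (hx : f x ∈ 𝐍(H.map f)) : x ∈ 𝐍(H) := (h.norm_eq hp hq hH hn).2.le hx

theorem ker_le_norm (hp : p.Prime) (hq : q.Prime) (hH : PiGrp {p, q} H) (hn : ¬ H ≤ f.ker) :
    f.ker ≤ 𝐍(H) := fun _ hx => h.mem_norm hp hq hH hn (MonoidHom.mem_ker.1 hx ▸ one_mem _)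

theorem hyp : Hyp L := fun H p q hp hq h0 hH => by
  have h1 : Sol H := Char.solvable_of_two_primes hp hq hH
  have h2 := h.sol
  have h3 : Sol (H.comap f) := Group.isSolvable_of_ker_le_range (inclusion (ker_le_comap f H))
    (f.subgroupComap H) fun x hx => ⟨⟨x, congrArg Subtype.val hx⟩, rfl⟩
  obtain ⟨U, hU⟩ := exists_hall {p, q} h3
  have h4 := hU.map f
  rw [map_comap_eq_self_of_surjective h.surj] at h4
  obtain rfl := h4.eq_self_iff.2 hH
  obtain ⟨h5, h6⟩ := h.norm_eq hp hq hU.piGrp (mt (Subgroup.map_eq_bot_iff _).2 h0)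
  rw [← h6] at h5
  exact ⟨fun e => h5.1 (by rw [e, comap_top]), fun M hM => comap_injective h.surj
    ((h5.2 _ ((comap_lt_comap_of_surjective h.surj).2 hM)).trans (comap_top f).symm)⟩

theorem rad (N : Subgroup L) (hN : N.Normal) (hs : Sol N) : N = ⊥ := by
  have h1 := Core.comap_solvableRadical_eq h.surj h.sol
  rw [← h.ker, ← MonoidHom.comap_bot] at h1
  exact le_bot_iff.1 ((Core.le_solvableRadical hs).trans (comap_injective h.surj h1).le)

end Ext

/-- The perfect residual, which centralizes the radical. -/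
structure Res {G : Type u} [Group G] {L : Type v} [Group L] (f : G →* L) (K : Subgroup G) :
    Prop where
  normal : K.Normal
  map : K.map f = ⊤
  perfect : der K = K
  cent : f.ker ≤ 𝐂(K)

theorem Ext.exists_res [IsSimpleGroup L] (h : Ext f) (hL : 6 ∣ Nat.card L) : ∃ K, Res f K := by
  obtain ⟨K, -, ⟨h1, h2⟩, hm⟩ := exists_minimal_le_of_wellFoundedLT
    (fun K : Subgroup G => K.Normal ∧ K.map f = ⊤) ⊤ ⟨inferInstance, map_top_of_surjective f h.surj⟩
  have h3 : ⁅(⊤ : Subgroup L), (⊤ : Subgroup L)⁆ = ⊤ :=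
    (IsSimpleGroup.eq_bot_or_eq_top_of_normal _ inferInstance).resolve_left fun e =>
      top_ne_bot (h.rad ⊤ inferInstance (sol_of_ab (ab_iff_der.2 e)))
  have h4 : ∀ N : Subgroup G, N.Normal → N.map f ≠ ⊥ → K ≤ ⁅K, N⁆ := fun N hN e =>
    hm ⟨inferInstance, by rw [map_commutator, h2, ((hN.map f h.surj).eq_bot_or_eq_top).resolve_left e,
      h3]⟩ (commutator_le_left _ _)
  have h5 : ∀ p : ℕ, p.Prime → p ∣ 6 → ∀ r ∈ f.ker, ∀ k ∈ K, ⁅r, k⁆ ∈ Op p f.ker := fun p hp e => by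
    have := Fact.mk hp
    obtain ⟨y, -, hy⟩ := cauchy (H := (⊤ : Subgroup L)) hp (card_top (G := L) ▸ e.trans hL)
    obtain ⟨x, -, rfl, hx⟩ := exists_lift (map_top_of_surjective f h.surj) (π := {p}) (y := y)
      (by rw [PiElt, hy]; exact (isPiNum_prime hp).2 rfl)
    have x1 := ne_one_of_prime (hy ▸ hp)
    have hx' := isPGroup_zpowers_iff.2 hx
    have h6 := h.ker_le_norm hp hp (piGrp_of_isPGroup hx' (.inl rfl)) fun e => x1 (e (mem_zpowers x))
    have : (Op p f.ker).Normal := normal_of_top_le (le_norm_Op p le_normalizer_of_normal)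
    let π := QuotientGroup.mk' (Op p f.ker)
    have : (f.ker.map π).Normal := Normal.map inferInstance π (QuotientGroup.mk'_surjective _)
    have h7 : ∀ k, k ∈ (𝐂(f.ker.map π)).comap π ↔ ∀ r ∈ f.ker, ⁅r, k⁆ ∈ Op p f.ker := fun k => by
      simp only [mem_comap, mem_cent_iff, mem_map, forall_exists_index, and_imp,
        forall_apply_eq_imp_iff₂, ← commutatorElement_eq_one_iff_mul_comm, ← map_commutatorElement]
      exact forall₂_congr fun r _ => QuotientGroup.eq_one_iff _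
    intro r hr k hk
    refine (h7 k).1 ((h4 _ inferInstance fun e => x1 ?_).trans (commutator_le_right _ _) hk) r hr
    exact e.le (mem_map_of_mem f ((h7 x).2 fun r hr => le_Op (normalIn_inf_of_norm h6)
      (hx'.to_le inf_le_right) (commutator_le_inf' le_normalizer_of_normal h6
        (commutator_mem_commutator hr (mem_zpowers x)))))
  refine ⟨K, h1, h2, le_antisymm (der_le K) (h4 K h1 (h2 ▸ top_ne_bot)),
    le_cent_iff.2 fun r hr k hk => commutatorElement_eq_one_iff_mul_comm.1 ?_⟩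
  have := Fact.mk Nat.prime_three
  exact (inf_eq_bot_of_coprime_card (coprime_of_isPGroup_ne (Op_isPGroup 2 _) (Op_isPGroup 3 _)
    (by decide))).le ⟨h5 2 Nat.prime_two (by decide) r hr k hk, h5 3 Nat.prime_three (by decide) r hr k hk⟩

namespace Res

variable (h : Res f K)
include h

theorem sup_eq : K ⊔ f.ker = ⊤ := by rw [← comap_map_eq, h.map, comap_top]

theorem le_center : K ⊓ f.ker ≤ center G := by
  rw [← cent_top, ← h.sup_eq]
  exact le_cent_sup (inf_le_right.trans h.cent) (inf_le_left.trans (le_cent_symm h.cent))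

theorem comm (hz : z ∈ K ⊓ f.ker) (g : G) : g * z = z * g := mem_center_iff.1 (h.le_center hz) g

theorem pow_mem (hA : A ≤ K) (hz : z ∈ K ⊓ f.ker) :
    z ^ (A.map f).index ∈ der (A ⊔ K ⊓ f.ker) := by
  have := pow_mem_der (mem_Zc.2 ⟨hz.1, fun y _ => h.comm hz y⟩) (h.perfect.ge hz.1) (A ⊔ K ⊓ f.ker)
  rwa [inf_comm, ← sup_inf_of_le_left (.inl le_normalizer_of_normal) hA, inf_relIndex_right,
    ← comap_map_eq, relIndex_comap, h.map, relIndex_top_right, comap_map_eq,
    sup_inf_of_le_left (.inl le_normalizer_of_normal) hA, inf_comm] at this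

theorem ab_sup_cent {Q : Type*} [Group Q] (π : G →* Q) (hA : Ab (A.map π)) :
    der (A ⊔ K ⊓ f.ker) ≤ π.ker := by
  have h1 : K ⊓ f.ker ≤ 𝐂(A ⊔ K ⊓ f.ker) := h.le_center.trans (center_le_centralizer _)
  rw [← Subgroup.map_eq_bot_iff, map_commutator, ← ab_iff_der, Subgroup.map_sup]
  exact ab_sup hA (ab_map (ab_iff_le_cent.2 (h1.trans (cent_anti le_sup_right))) π)
    (map_le_cent π (le_cent_symm (h1.trans (cent_anti le_sup_left))))

variable [IsSimpleGroup L] (hL : Nat.card L = 1092)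
include hL

omit h in
theorem syl_of_order {y : L} (hy : (orderOf y).Prime) (h2 : orderOf y ≠ 2) :
    Syl (orderOf y) (zpowers y) ⊤ := by
  have := Fact.mk hy
  refine Ord1092.syl_of_card hL (k := 1) (by rw [Nat.card_zpowers, pow_one]) (fun e => ?_) le_top
  have := hy.two_le
  generalize orderOf y = l at *
  have : l ≤ 33 := Nat.le_of_lt_succ (lt_of_pow_lt_pow_left₀ 2 (by decide)
    ((Nat.le_of_dvd (by decide) e).trans_lt (by decide)))
  interval_cases l <;> simp_all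

theorem isP : IsPGroup 2 (K ⊓ f.ker : Subgroup G) := by
  by_contra e
  obtain ⟨z, hz, z1, z2⟩ := exists_odd_prime e
  have := Fact.mk z1
  obtain ⟨y, hy⟩ : ∃ y : L, Syl (orderOf z) (zpowers y) ⊤ := by
    by_cases e : orderOf z ∣ ♯(⊤ : Subgroup L)
    · obtain ⟨y, -, hy⟩ := cauchy z1 e
      exact ⟨y, hy ▸ syl_of_order hL (hy ▸ z1) (hy ▸ z2)⟩
    · exact ⟨1, by rw [zpowers_one_eq_bot]; exact syl_bot e⟩
  obtain ⟨x, hx, rfl⟩ := h.map.ge (mem_top y)
  have h1 := h.ab_sup_cent (MonoidHom.id G) (ab_map (ab_of_isCyclic inferInstance) _)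
    (h.pow_mem (zpowers_le.2 hx) hz)
  rw [MonoidHom.map_zpowers] at h1
  exact hy.not_dvd (by rw [relIndex_top_right]; exact orderOf_dvd_of_pow_eq_one h1)

theorem exists_comm {t s ρ : L} (hV : GW.V4 ⊤ t s ρ) : ∃ a ∈ K, ∃ k ∈ K, f a = t ∧ f k = ρ ∧
    (∀ z ∈ K ⊓ f.ker, z = 1 ∨ z = ⁅a, k * a * k⁻¹⁆) ∧ ∀ z ∈ K ⊓ f.ker, z * z = 1 := by
  obtain ⟨a, ha, rfl⟩ := h.map.ge (mem_top t)
  obtain ⟨k, hk, rfl⟩ := h.map.ge (mem_top ρ)
  refine ⟨a, ha, k, hk, rfl, rfl, ?_⟩
  have hb := h.normal.conj_mem a ha k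
  have hs : f (k * a * k⁻¹) = s := by rw [← hV.ρt, map_mul, map_mul, map_inv]
  generalize k * a * k⁻¹ = b at *
  subst hs
  have hc : ⁅a, b⁆ ∈ K ⊓ f.ker := ⟨der_le K (commutator_mem_commutator ha hb),
    (map_commutatorElement f a b).trans hV.comm.commutator_eq⟩
  have c2 : ⁅a, b⁆ * ⁅a, b⁆ = 1 := by
    have h1 := h.comm (z := a * a) ⟨mul_mem ha ha, (map_mul f a a).trans hV.t_sq⟩ b
    rw [← commutatorElement_eq_one_iff_mul_comm.2 h1.symm, show ⁅a * a, b⁆ =
      a * ⁅a, b⁆ * a⁻¹ * ⁅a, b⁆ by simp only [commutatorElement_def]; group, h.comm hc a,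
      mul_inv_cancel_right]
  have : (zpowers ⁅a, b⁆).Normal := ⟨fun x hx g => by
    rwa [h.comm (zpowers_le.2 hc hx), mul_inv_cancel_right]⟩
  have h2 : ∀ z ∈ K ⊓ f.ker, z = 1 ∨ z = ⁅a, b⁆ := fun z hz => by
    have h3 := h.ab_sup_cent (QuotientGroup.mk' (zpowers ⁅a, b⁆)) (A := zpowers a ⊔ zpowers b) (by
      rw [Subgroup.map_sup, MonoidHom.map_zpowers, MonoidHom.map_zpowers]
      refine ab_sup (ab_of_isCyclic inferInstance) (ab_of_isCyclic inferInstance) ?_
      rw [cent_zpowers, zpowers_le, mem_cent1, ← commutatorElement_eq_one_iff_mul_comm,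
        ← map_commutatorElement]
      exact (QuotientGroup.eq_one_iff _).2 (mem_zpowers _))
      (h.pow_mem (sup_le (zpowers_le.2 ha) (zpowers_le.2 hb)) hz)
    rw [QuotientGroup.ker_mk', Subgroup.map_sup, MonoidHom.map_zpowers, MonoidHom.map_zpowers] at h3
    obtain ⟨n, hn⟩ := IsPGroup.iff_card.1 ((h.isP hL).to_le (zpowers_le.2 hz))
    refine (GW.mem_zp c2).1 (zpowers_le.2 h3 (mem_zpowers_pow_iff.2 ?_))
    rw [← Nat.card_zpowers, hn, ← relIndex_top_right]
    exact ((Nat.prime_two.coprime_iff_not_dvd.2 hV.pair.syl.not_dvd).pow_left n).symm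
  exact ⟨h2, fun z hz => by rcases h2 z hz with e | e <;> simp [e, c2]⟩

theorem iso {t s ρ : L} (hV : GW.V4 ⊤ t s ρ) (p : ℕ) [Fact p.Prime] (hp : (2 : ZMod p) ≠ 0)
    (e : L ≃* PSL(2, ZMod p)) : Nonempty (K ≃* PSL(2, ZMod p)) ∨ Nonempty (K ≃* SL(2, ZMod p)) := by
  obtain ⟨a, ha, k, hk, rfl, rfl, h1, h2⟩ := h.exists_comm hL hV
  let g : K →* PSL(2, ZMod p) := e.toMonoidHom.comp (f.comp K.subtype)
  have g1 : Function.Surjective g := e.surjective.comp fun y => by
    obtain ⟨x, hx, rfl⟩ := h.map.ge (mem_top y)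
    exact ⟨⟨x, hx⟩, rfl⟩
  have g2 : ∀ x, g x = 1 ↔ f x = 1 := fun x => map_eq_one_iff _ e.injective
  have hb := h.normal.conj_mem a ha k
  by_cases c1 : ⁅a, k * a * k⁻¹⁆ = 1
  · exact .inl ⟨MulEquiv.ofBijective g ⟨(injective_iff_map_eq_one g).2 fun x hx =>
      Subtype.ext ((h1 x ⟨x.2, (g2 x).1 hx⟩).elim id fun e => e.trans c1), g1⟩⟩
  have n1 : (-1 : SL(2, ZMod p)) ≠ 1 := fun e => hp (by
    have := congrArg (fun x : SL(2, ZMod p) => x.1 0 0) e
    simp at this
    linear_combination -this)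
  have sq : ∀ x ∈ K, ∀ y ∈ K, f x = f y → x * x = 1 → y * y = 1 := fun x hx y hy e x2 => by
    have h3 : x⁻¹ * y ∈ K ⊓ f.ker := mem_inf.2 ⟨mul_mem (inv_mem hx) hy, by
      rw [MonoidHom.mem_ker, map_mul, map_inv, e, inv_mul_cancel]⟩
    rw [← mul_inv_cancel_left x y, mul_assoc, ← mul_assoc _ x, ← h.comm h3, mul_assoc, h2 _ h3,
      mul_one, x2]
  refine .inr (cover_iso g (QuotientGroup.mk' _) g1 (QuotientGroup.mk'_surjective _)
    (a := ⟨_, der_le K (commutator_mem_commutator ha hb)⟩) (fun e => c1 (congrArg Subtype.val e)) n1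
    (fun x => (g2 x).trans ⟨fun e => (h1 x ⟨x.2, e⟩).imp Subtype.ext Subtype.ext, ?_⟩) (fun y => ?_)
    (fun x hx => (g2 x).2 (by_contra fun x1 => c1 ?_))
    (fun y hy => (QuotientGroup.eq_one_iff _).2 (Lin.SL2.mem_center_of_sq_eq_one hp hy)) fun q hq => ?_)
  · rintro (rfl | rfl)
    · exact map_one f
    · rw [map_commutatorElement, map_mul, map_mul, map_inv, hV.ρt, hV.comm.commutator_eq]
  · rw [QuotientGroup.mk'_apply, QuotientGroup.eq_one_iff, ← eq_zpowers_of_prime (x := -1)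
      (by rw [card_center_SL2 p n1]; exact Nat.prime_two) (mem_center_iff.2 fun g => by simp) n1,
      GW.mem_zp (by simp)]
  · have x2 : (x : G) * x = 1 := congrArg Subtype.val ((pow_two x).symm.trans hx)
    obtain ⟨u, -, hu⟩ := hV.exists_conj (mem_top (f x)) x1 (by rw [← map_mul, x2, map_one])
    obtain ⟨u, hu', rfl⟩ := h.map.ge (mem_top u)
    have a2 := sq _ (h.normal.conj_mem _ x.2 u⁻¹) a ha (by
      rw [map_mul, map_mul, ← hu, inv_inv, map_inv]; group) (BSW.conj_mul_self x2)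
    have b2 := BSW.conj_mul_self (g := k) a2
    have := sq _ (h.normal.conj_mem _ hb k) _ (mul_mem ha hb) (by
      simp only [map_mul, map_inv, hV.ρt, hV.ρs]) (BSW.conj_mul_self b2)
    rwa [commutatorElement_def, GW.inv_eq a2, GW.inv_eq b2, mul_assoc]
  · obtain ⟨q, rfl⟩ := e.surjective q
    rw [← map_pow, map_eq_one_iff _ e.injective] at hq ⊢
    obtain ⟨u, -, hu⟩ := hV.pair.syl.exists_conj_le le_top (isPGroup_zpowers_iff.2 fun r hr h' =>
      (Nat.prime_dvd_prime_iff_eq hr Nat.prime_two).1 (hr.dvd_of_dvd_pow (n := 2)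
        (h'.trans (orderOf_dvd_of_pow_eq_one hq))))
    have := hV.pair.isEp.abelem.2 _ (hu (conj_mem_conj (mem_zpowers q)))
    rwa [conj_pow, mul_inv_eq_one, mul_eq_left] at this

end Res

end Cfsg.Agent.MN
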