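import Cfsg.Agent.Lib.MN.Basic
import Cfsg.Agent.Lib.Coprime.RankTwo

/-!
# Groups whose nontrivial `{p, q}`-subgroups have maximal normalizers: Sylow 2-subgroups
-/

set_option autoImplicit false
set_option linter.unusedSectionVars false

namespace Cfsg.Agent.MN

open Subgroup Cfsg.Agent.Coprime Cfsg.Agent.OO Cfsg.Agent.E8
open scoped Pointwise commutatorElement

universe u

variable {G : Type u} [Group G] [Finite G] {A B T W : Subgroup G} {t s y d z x a e u : G}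

theorem card_le_four (hA : A.relIndex T ≤ 2) (hB : B.relIndex T ≤ 2) (h : A ⊓ B ⊓ T = ⊥) :
    ♯T ≤ 4 := by
  have h1 := card_inf_mul_relIndex (A ⊓ B) T
  rw [h, card_bot, one_mul] at h1
  exact h1.ge.trans (relIndex_inf_le.trans (Nat.mul_le_mul hA hB))

theorem zp_sq (hy : (orderOf y).Prime) (h2 : orderOf y ≠ 2) : zpowers (y * y) = zpowers y :=
  eq_zpowers_of_prime (by rwa [Nat.card_zpowers]) (mul_mem (mem_zpowers y) (mem_zpowers y)) fun e =>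
    h2 (GW.orderOf_eq_two e (ne_one_of_prime hy))

theorem eq_or_of_three (h : orderOf d = 3) (hx : x ∈ zpowers d) (x1 : x ≠ 1) : x = d ∨ x = d⁻¹ := by
  obtain ⟨k, rfl⟩ := (mem_powers_iff_mem_zpowers.2 hx : ∃ k : ℕ, d ^ k = x)
  have h3 : d ^ 3 = 1 := h ▸ pow_orderOf_eq_one d
  beta_reduce at x1 ⊢
  rw [pow_eq_pow_mod k h3] at x1 ⊢
  have : k % 3 = 0 ∨ k % 3 = 1 ∨ k % 3 = 2 := by omega
  rcases this with e | e | e <;> rw [e] at x1 ⊢
  · simp at x1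
  · exact .inl (pow_one d)
  · exact .inr (eq_inv_of_mul_eq_one_left (by rwa [← pow_succ]))

namespace Tb

variable (h : Hyp G) (hT : Tb T d)
include h hT

theorem card_le_of_syl (hS : Syl 2 T ⊤) : ♯T ≤ 4 := by
  obtain ⟨t, ht, t1⟩ := exists_mem_ne_one hT.ne
  have h1 : T ≤ 𝐂[t] := hT.ab.le_cent.trans (cent_le_cent1 ht)
  obtain ⟨y, hy, y1, y2⟩ := exists_odd_prime (W := 𝐂[t]) fun e => not_mem_of_two e hT.prime hT.odd
    ((((h.coatom_cent t1 (hT.sq t ht)).le_iff_eq (h.coatom hT.isP hT.ne).1).1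
      ((hS.eq_of_le h1 le_top e).le.trans (le_norm_self T))) ▸ hT.norm)
  have hN := h.norm_eq_cent t1 (hT.sq t ht) y1 y2 hy
  have h2 : 𝐂[y].relIndex T ≤ 2 := relIndex_le_two fun s hs =>
    conj_eq_or y1 (hN ▸ h1 hs) (hT.sq s hs)
  refine card_le_four h2 (B := 𝐂[d * y * d⁻¹]) ?_ (eq_bot_iff.2 fun u hu => by_contra fun u1 => u1 ?_)
  · rwa [cent1_conj, ← conj_eq_of_mem_norm hT.norm, relIndex_conj]
  have h3 := h.norm_eq_cent u1 (hT.sq u hu.2) y1 y2 (mem_cent1_comm.1 hu.1.1)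
  have h4 := h.norm_eq_cent u1 (hT.sq u hu.2) (orderOf_conj d y ▸ y1) (orderOf_conj d y ▸ y2)
    (mem_cent1_comm.1 hu.1.2)
  rw [← conj_zpowers, norm_conj, h3, conj_eq_self_iff] at h4
  exact hT.fpf h hT.prime hT.odd hT.norm hu.2 (h.self_norm_cent u1 (hT.sq u hu.2) h4)

theorem card_eq (h4 : ♯T ≤ 4) : ♯T = 4 ∧ orderOf d = 3 := by
  have := Fact.mk hT.prime
  have h1 := card_modEq_one_of_fpf (isP_zp rfl) hT.norm (eq_bot_iff.2 fun t ht =>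
    hT.fpf h hT.prime hT.odd hT.norm ht.1 (mem_cent1_comm.1 ht.2))
  have h2 := one_lt_card hT.ne
  have h3 := dvd_card_of_isPGroup hT.isP hT.ne
  have h5 := (Nat.modEq_iff_dvd' h2.le).1 h1.symm
  have h6 : ♯T = 4 := by
    by_contra e
    rw [show ♯T = 2 by omega] at h5
    exact hT.prime.ne_one (Nat.dvd_one.1 h5)
  exact ⟨h6, (Nat.prime_dvd_prime_iff_eq hT.prime Nat.prime_three).1 (by rwa [h6] at h5)⟩

theorem inf_norm : T ⊓ 𝐍(zpowers d) = ⊥ := by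
  have := Fact.mk hT.prime
  have h1 : ⁅T ⊓ 𝐍(zpowers d), zpowers d⁆ = ⊥ := eq_bot_iff.2 ((le_inf ((commutator_mono inf_le_left
    le_rfl).trans (commutator_le_left' (zpowers_le.2 hT.norm))) (commutator_le_right'
      inf_le_right)).trans (inf_eq_bot_of_coprime_card
        (coprime_of_isPGroup_ne hT.isP (isP_zp rfl) hT.odd.symm)).le)
  rw [OO.commutator_eq_bot_iff, cent_zpowers] at h1
  exact eq_bot_iff.2 fun t ht => hT.fpf h hT.prime hT.odd hT.norm ht.1 (mem_cent1_comm.1 (h1 ht))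

theorem exists_inv (ha : a ∈ 𝐍(T)) (a2 : a * a ∈ T) (a1 : a ∉ T) :
    ∃ τ ∈ T, ∃ e ∈ 𝐍(T), e ≠ 1 ∧ e * e = 1 ∧ e * d * e⁻¹ = d⁻¹ ∧ a = τ * e := by
  have := Fact.mk hT.prime
  have hd := zpowers_le.2 hT.norm
  have h0 := syl_sup (isP_zp rfl) hT.isP hT.odd (.inl hd)
  rw [sup_comm] at h0
  obtain ⟨k, hk, n, hn, rfl⟩ := (h0.frattini ⟨sup_le (le_norm_self T) hd,
    h.le_norm_sup hT.isP hT.ne (isP_zp rfl) hT.odd.symm hd⟩).mem_iff.1 ha
  obtain ⟨τ, hτ, δ, hδ, rfl⟩ := (mem_sup_norm_left hd).1 hk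
  have h1 : δ * n ∈ 𝐍(T) ⊓ 𝐍(zpowers d) := mul_mem ⟨hd hδ, le_norm_self _ hδ⟩ hn
  rw [mul_assoc τ δ n] at a1 a2 ⊢
  generalize δ * n = e at *
  have e1 : e ≠ 1 := fun e' => a1 (by rwa [e', mul_one])
  have e2 : e * e = 1 := (hT.inf_norm h).le ⟨by
    rwa [show τ * e * (τ * e) = τ * (e * τ * e⁻¹) * (e * e) by group,
      mul_mem_cancel_left (mul_mem hτ (conj_mem_of_norm h1.1 hτ))] at a2, mul_mem h1.2 h1.2⟩
  refine ⟨τ, hτ, e, h1.1, e1, e2, (conj_eq_or hT.prime h1.2 e2).resolve_left fun e3 => ?_, rfl⟩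
  have h2 := zpowers_le.2 h1.1
  refine inf_Zc_ne_bot (nil_of_isPGroup (isPGroup_sup hT.isP (isP_inv e2) (.inr h2)))
    (normalIn_sup_left h2) hT.ne (eq_bot_iff.2 ((inf_le_inf_left T ?_).trans (hT.inf_norm h).le))
  rw [h.norm_eq_cent e1 e2 hT.prime hT.odd (mem_cent1_comm.1 (mem_cent1_iff_conj.2 e3))]
  exact (Zc_le_cent _).trans (cent_le_cent1 (mem_sup_right (mem_zpowers e)))

theorem inv_mod (ha : a ∈ 𝐍(T)) (a2 : a * a ∈ T) (a1 : a ∉ T) : a * d * a⁻¹ * d ∈ T := by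
  obtain ⟨τ, hτ, e, -, -, -, h1, rfl⟩ := hT.exists_inv h ha a2 a1
  rw [show τ * e * d * (τ * e)⁻¹ * d = τ * ((e * d * e⁻¹) * τ⁻¹ * d) by group, h1]
  exact mul_mem hτ (conj_mem_of_norm' hT.norm (inv_mem hτ))

/-- a second elementary abelian subgroup of the same order in `N(T)` -/
theorem card_le_of_ne (hA : A ≤ 𝐍(T)) (sq : ∀ a ∈ A, a * a = 1) (hc : ♯A = ♯T) (hn : ¬ A ≤ T) :
    ♯T ≤ 4 := by
  obtain ⟨a, ha, a1⟩ := SetLike.not_le_iff_exists.1 hn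
  have h0 : ∀ a ∈ A, a ∉ T → a * d * a⁻¹ * d ∈ T := fun a ha =>
    hT.inv_mod h (hA ha) (sq a ha ▸ one_mem T)
  have h1 : T.relIndex A = 2 := relIndex_eq_two_iff.2 ⟨a, ha, fun b hb => by
    by_cases e : b ∈ T
    · exact .inr ⟨e, fun e' => a1 ((mul_mem_cancel_left e).1 e')⟩
    refine .inl ⟨by_contra fun e' => not_mem_of_two hT.isP hT.prime hT.odd ?_, e⟩
    rw [← zpowers_le, ← zp_sq hT.prime hT.odd, zpowers_le]
    have := mul_mem (mul_mem (inv_mem (conj_mem_of_norm (hA hb) (h0 a ha a1))) (h0 _ (mul_mem hb ha) e'))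
      (conj_mem_of_norm' hT.norm (h0 b hb e))
    convert this using 1
    group⟩
  have h2 : 𝐂[a].relIndex T ≤ 2 := by
    have h3 := card_inf_mul_relIndex T A
    rw [h1, hc, ← card_inf_mul_relIndex A T, inf_comm] at h3
    exact (relIndex_le_of_le_left ((Ab.le_cent (BSW.comm_of_mul_self sq)).trans (cent_le_cent1 ha))
      (relIndex_pos _ _).ne').trans (Nat.eq_of_mul_eq_mul_left (card_pos' _) h3).ge
  refine card_le_four h2 (B := 𝐂[d * a * d⁻¹]) ?_ (eq_bot_iff.2 fun u hu => ?_)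
  · rwa [cent1_conj, ← conj_eq_of_mem_norm hT.norm, relIndex_conj]
  refine hT.fpf h hT.prime hT.odd hT.norm hu.2 ?_
  rw [← zpowers_le, ← zp_sq hT.prime hT.odd, zpowers_le]
  have := mul_mem (mul_mem (mem_cent1_comm.1 hu.1.2) (inv_mem (mem_cent1_comm.1 hu.1.1)))
    (hT.ab.le_cent.trans (cent_le_cent1 hu.2) (h0 a ha a1))
  convert this using 1
  group

theorem exists_odd (h3 : orderOf d = 3) (ha : a ∈ 𝐍(T)) (a2 : a * a ∈ T) (a1 : a ∉ T) :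
    ∃ u : G, u ≠ 1 ∧ u * u = 1 ∧ ¬ IsPGroup 2 𝐂[u] := by
  have := Fact.mk hT.prime
  by_contra! hc
  obtain ⟨-, -, e, he, e1, e2, h1, -⟩ := hT.exists_inv h ha a2 a1
  have d1 := zp_ne (ne_one_of_prime hT.prime)
  have h2 : zpowers e ≤ 𝐍(zpowers d) := zpowers_le.2 (mem_norm_of_conj_le (by
    rw [conj_zpowers, h1, zpowers_inv]))
  have h4 : 𝐂[e] ⊓ 𝐂[d] = ⊥ := by_contra fun e' => by
    obtain ⟨v, hv, v1⟩ := exists_prime_order_mem e'
    have v2 : orderOf v = 2 := by_contra fun e'' => not_mem_of_two (hc e e1 e2) v1 e'' hv.1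
    exact not_mem_of_two (hc v (ne_one_of_prime v1) (by rw [← pow_two, ← v2, pow_orderOf_eq_one]))
      hT.prime hT.odd (mem_cent1_comm.1 hv.2)
  have h5 := ((syl_sup (isP_inv e2) (isP_zp rfl) hT.odd.symm (.inl h2)).frattini
    ⟨sup_le h2 (le_norm_self _), sup_comm _ (zpowers e) ▸
      h.le_norm_sup (isP_zp rfl) d1 (isP_inv e2) hT.odd h2⟩).sup_eq
  rw [← cent1_eq_norm e2] at h5
  refine hT.ne (le_bot_iff.1 ((le_inf le_rfl ((le_norm_self T).trans (h.norm_eq (isP_zp rfl) d1 hT.isP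
    hT.ne (h5.ge.trans (sup_le (sup_le (zpowers_le.2 he) (zpowers_le.2 hT.norm))
      fun w hw => ?_))).le)).trans (hT.inf_norm h).le))
  rcases eq_or_of_three h3 (conj_mem_of_norm hw.1 (mem_zpowers d))
    (BSW.conj_ne_one (ne_one_of_prime hT.prime)) with e' | e'
  · exact mem_bot.1 (h4.le ⟨hw.2, mem_cent1_iff_conj.2 e'⟩) ▸ one_mem _
  · rw [← mul_mem_cancel_left he, mem_bot.1 (h4.le ⟨mul_mem (mem_cent1_self e) hw.2,
      mem_cent1_iff_conj.2 (by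
        rw [show e * w * d * (e * w)⁻¹ = e * (w * d * w⁻¹) * e⁻¹ by group, e', ← conj_inv, h1,
          inv_inv])⟩)]
    exact one_mem _

end Tb

/-- an involution whose centralizer is not a 2-group, next to one whose centralizer is -/
theorem Hyp.exists_four (h : Hyp G) (z1 : z ≠ 1) (z2 : z * z = 1) (hz : IsPGroup 2 𝐂[z])
    (u1 : u ≠ 1) (u2 : u * u = 1) (hu : ¬ IsPGroup 2 𝐂[u]) :
    ∃ u ∈ 𝐂[z], u ≠ 1 ∧ u ≠ z ∧ u * u = 1 ∧ ∀ s ∈ 𝐂[z], s * u * s⁻¹ = u ∨ s * u * s⁻¹ = u * z := by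
  have hS : Syl 2 𝐂[z] ⊤ := syl_of_max le_top hz fun U h1 _ h2 =>
    ((h.coatom_cent z1 z2).le_iff_eq fun e : U = ⊤ => hu (h2.to_le (le_top.trans e.ge))).1 h1
  obtain ⟨W, hW⟩ := exists_syl 2 𝐂[u]
  obtain ⟨g, -, hg⟩ := hS.exists_conj_le le_top hW.isPGroup
  replace hW := hW.conj g
  rw [← isPGroup_conj (g := g)] at hu
  rw [← cent1_conj] at hW hu
  replace u1 := BSW.conj_ne_one (g := g) u1
  replace u2 := BSW.conj_mul_self (g := g) u2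
  generalize g * u * g⁻¹ = u at *
  generalize g •ᶜ W = W at *
  obtain ⟨y, hy, y1, y2⟩ := exists_odd_prime hu
  have := Fact.mk y1
  have hN := h.norm_eq_cent u1 u2 y1 y2 hy
  have uW : u ∈ W := zpowers_le.1 (hW.le_of_normal
    ⟨zpowers_le.2 (mem_cent1_self u), (cent1_eq_norm u2).le⟩ (isP_inv u2))
  have zW : z ∈ W := (hW.eq_of_le (le_inf hg hW.le) inf_le_right (hz.to_le inf_le_left)).le
    ⟨mem_cent1_self z, mem_cent1_comm.1 (hg uW)⟩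
  have W0 : W ≠ ⊥ := fun e => z1 (e.le zW)
  have zy : y ∉ 𝐂[z] := not_mem_of_two hz y1 y2
  have hi : ∀ v ∈ W, v * v = 1 → y ∉ 𝐂[v] → v * y * v⁻¹ = y⁻¹ := fun v hv v2 e =>
    (conj_eq_or y1 (hN ▸ hW.le hv) v2).resolve_left fun e' => e
      (mem_cent1_comm.1 (mem_cent1_iff_conj.2 e'))
  have hi2 : ∀ v ∈ W, v * v = 1 → y ∉ 𝐂[v] → ∀ w ∈ W, w * w = 1 → y ∉ 𝐂[w] → y ∈ 𝐂[v * w] :=
    fun v hv v2 e w hw w2 e' => mem_cent1_comm.1 (mem_cent1_iff_conj.2 (by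
      rw [show v * w * y * (v * w)⁻¹ = v * (w * y * w⁻¹) * v⁻¹ by group, hi w hw w2 e', ← conj_inv,
        hi v hv v2 e, inv_inv]))
  have sq : ∀ v ∈ W, v * v = 1 → ∀ w ∈ W, w * w = 1 → v * w * (v * w) = 1 := fun v hv v2 w hw w2 => by
    rw [mul_assoc, ← mul_assoc w, mem_cent1.1 (h.le_cent y1 y2 hW.isPGroup (hN ▸ hW.le) hv v2 hw),
      mul_assoc, w2, mul_one, v2]
  obtain ⟨k, hk, k1⟩ := SetLike.not_le_iff_exists.1 fun e : 𝐍(W) ≤ 𝐂[u] => zy (cent_le_cent1 zW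
    (le_cent_of_coprime (zpowers_le.2 ((((h.coatom hW.isPGroup W0).le_iff_eq
      (h.coatom_cent u1 u2).1).1 e).le hy)) (hN ▸ hW.le)
      (coprime_of_isPGroup_ne (isP_zp rfl) hW.isPGroup y2) (mem_zpowers y)))
  have hk' : ∀ v, v ≠ 1 → v * v = 1 → y ∈ 𝐂[v] → y ∉ 𝐂[k * v * k⁻¹] := fun v v1 v2 e e' => by
    have h1 := h.norm_eq_cent (BSW.conj_ne_one v1) (BSW.conj_mul_self v2) y1 y2 e'
    rw [cent1_conj, ← h.norm_eq_cent v1 v2 y1 y2 e, hN, eq_comm, conj_eq_self_iff] at h1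
    exact k1 (h.self_norm_cent u1 u2 h1)
  have hu1 : ∀ v ∈ W, v ≠ 1 → v * v = 1 → y ∈ 𝐂[v] → v = u := fun v hv v1 v2 e => by_contra fun e' =>
    hk' (v * u) (fun e'' => e' (by rw [eq_inv_of_mul_eq_one_left e'', GW.inv_eq u2])) (sq v hv v2 u uW u2)
      (mem_cent1_comm.1 (mul_mem (mem_cent1_comm.1 e) (mem_cent1_comm.1 hy))) (by
        rw [← conj_mul]
        exact hi2 _ (conj_mem_of_norm hk hv) (BSW.conj_mul_self v2) (hk' v v1 v2 e) _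
          (conj_mem_of_norm hk uW) (BSW.conj_mul_self u2) (hk' u u1 u2 hy))
  have hu2 : ∀ v ∈ W, v ≠ 1 → v * v = 1 → ¬ IsPGroup 2 𝐂[v] → v = u ∨ v = u * z :=
    fun v hv v1 v2 e => or_iff_not_imp_left.2 fun e' => by
      rw [← hu1 (v * z) (mul_mem hv zW) (fun e'' => e (by
        rwa [eq_inv_of_mul_eq_one_left e'', cent1_inv])) (sq v hv v2 z zW z2)
        (hi2 v hv v2 (fun e'' => e' (hu1 v hv v1 v2 e'')) z zW z2 zy), mul_assoc, z2, mul_one]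
  have hu3 : ∀ g ∈ 𝐍(W), g * u * g⁻¹ = u ∨ g * u * g⁻¹ = u * z := fun g hg =>
    hu2 _ (conj_mem_of_norm hg uW) (BSW.conj_ne_one u1) (BSW.conj_mul_self u2)
      (by rwa [cent1_conj, isPGroup_conj])
  refine ⟨u, hg uW, u1, fun e => hu (e ▸ hz), u2, fun s hs => hu3 s ?_⟩
  refine (((h.coatom hW.isPGroup W0).le_iff_eq (h.coatom_cent z1 z2).1).1 fun g hg => ?_).le hs
  have h1 : IsPGroup 2 𝐂[g * z * g⁻¹] := by rwa [cent1_conj, isPGroup_conj]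
  have h2 := conj_mem_of_norm hg zW
  by_contra e
  have h3 := hu1 _ (mul_mem h2 zW) (fun e' => e (mem_cent1_iff_conj.2
    ((eq_inv_of_mul_eq_one_left e').trans (GW.inv_eq z2)))) (sq _ h2 (BSW.conj_mul_self z2) z zW z2)
    (hi2 _ h2 (BSW.conj_mul_self z2) (not_mem_of_two h1 y1 y2) z zW z2 zy)
  rw [eq_mul_inv_of_mul_eq h3, GW.inv_eq z2, ← (hu3 k hk).resolve_left
    fun e' => k1 (mem_cent1_iff_conj.2 e'), cent1_conj, isPGroup_conj] at h1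
  exact hu h1

theorem Tb.syl (h : Hyp G) (hT : Tb T d) : Syl 2 T ⊤ := by
  by_contra hn
  obtain ⟨S, hS, h0⟩ := exists_syl_ge (le_norm_self T) hT.isP
  obtain ⟨z, hz, z1⟩ := exists_mem_ne_one (inf_Zc_ne_bot hS.nil ⟨h0, hS.le⟩ hT.ne)
  have z2 := hT.sq z hz.1
  have h1 : S ≤ 𝐂[z] := le_cent1_iff.2 (Zc_le_cent _ hz.2)
  have h2 : IsPGroup 2 𝐂[z] := by_contra fun e => hn (IsSylowIn.of_syl_norm le_top (by
    obtain ⟨y, hy, y1, y2⟩ := exists_odd_prime e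
    obtain rfl := le_antisymm h0 ((le_cent_symm fun t ht => le_cent1_iff.1 (h.le_cent y1 y2
      hS.isPGroup (h.norm_eq_cent z1 z2 y1 y2 hy ▸ h1) (h0 ht) (hT.sq t ht))).trans hT.cent)
    rwa [top_inf_eq]))
  have h4 : ¬ 𝐂[z] ≤ 𝐍(T) := fun e => not_mem_of_two h2 hT.prime hT.odd
    ((((h.coatom_cent z1 z2).le_iff_eq (h.coatom hT.isP hT.ne).1).1 e).le hT.norm)
  obtain ⟨x, hx, x1⟩ := SetLike.not_le_iff_exists.1 fun e : 𝐂[z] ⊓ 𝐍(S) ≤ 𝐍(T) => h4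
    ((eq_of_nil_of_inf_norm_le (nil_of_isPGroup h2) h1 ((le_inf inf_le_left e).trans (hS.eq_of_le
      (le_inf h1 hS.le) inf_le_right (h2.to_le inf_le_left)).le)).ge.trans hS.le)
  have h5 : ¬ x •ᶜ T ≤ T := fun e => x1 (mem_norm_of_conj_le e)
  have h6 : x •ᶜ T ≤ S := conj_le_of_mem_norm hx.2 h0
  have sq : ∀ a ∈ x •ᶜ T, a * a = 1 := fun a ha => by
    obtain ⟨t, ht, rfl⟩ := mem_conj_iff_exists.1 ha
    exact BSW.conj_mul_self (hT.sq t ht)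
  obtain ⟨c4, d3⟩ := hT.card_eq h (hT.card_le_of_ne h (h6.trans hS.le) sq (card_conj _ _) h5)
  obtain ⟨a, ha, a1⟩ := SetLike.not_le_iff_exists.1 h5
  obtain ⟨u, u1, u2, hu⟩ := hT.exists_odd h d3 (hS.le (h6 ha)) (sq a ha ▸ one_mem T) a1
  obtain ⟨u, hu, u1, uz, u2, hs⟩ := h.exists_four z1 z2 h2 u1 u2 hu
  have hP : ∀ t ∈ T, t ≠ 1 → t ≠ z → GW.Pair T z t ∧ GW.S4 z t = T := fun t ht t1 tz => by
    have : GW.Pair T z t := ⟨hz.1, ht, z1, t1, tz.symm, z2, hT.sq t ht, ab_iff.1 hT.ab _ hz.1 _ ht,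
      by rw [c4]; decide⟩
    exact ⟨this, eq_of_le_of_card_le this.le (c4.trans this.card.symm).le⟩
  obtain ⟨t, ht, ea⟩ := mem_conj_iff_exists.1 ha
  obtain ⟨p1, p2⟩ := hP t ht (fun e => a1 (by simp [ea, e])) fun e =>
    a1 (by rw [ea, e, mem_cent1_iff_conj.1 hx.1]; exact hz.1)
  have hc : ∀ v ∈ 𝐂[z], v ∈ 𝐂[t] → v ∈ T := fun v hv e => hT.cent (by
    rw [← p2, GW.cent_S4]; exact ⟨hv, e⟩)
  have tz : t ∈ 𝐂[z] := h1 (h0 ht)
  have tu : t ∉ 𝐂[u] := fun e => h4 fun s hs' => mem_norm_of_conj_le (by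
    have e1 := hc u hu (mem_cent1_comm.1 e)
    conv_lhs => rw [← (hP u e1 u1 uz).2, GW.conj_S4, mem_cent1_iff_conj.1 hs']
    rcases hs s hs' with e2 | e2 <;> rw [e2, GW.S4_le]
    exacts [⟨hz.1, e1⟩, ⟨hz.1, mul_mem e1 hz.1⟩])
  have h7 : u * t * u⁻¹ = z * t := by
    rw [← mul_left_inj u, ← mul_right_inj u, ← mul_assoc, ← mul_assoc, ← mul_assoc, u2, one_mul,
      GW.inv_eq u2, mul_assoc, u2, mul_one, ← mul_assoc, ← mul_assoc, ← (hs t tz).resolve_left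
      fun e => tu (mem_cent1_iff_conj.2 e), inv_mul_cancel_right, mul_assoc, u2, mul_one]
  have az := h1 (h6 ha)
  have h8 : a * t * a⁻¹ = z * t := by
    have := conj_mem_of_norm (hS.le (h6 ha)) ht
    rw [← p2, p1.mem_S4] at this
    rcases this with e | e | e | e
    · exact absurd e (BSW.conj_ne_one p1.s_ne)
    · exact absurd (by rw [← mul_left_inj a⁻¹, ← mul_right_inj a, ← mul_assoc, ← mul_assoc, e,
        mem_cent1_iff_conj.1 az]) p1.ne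
    · exact absurd (hc a az (mem_cent1_iff_conj.2 e)) a1
    · exact e
  have h9 := hT.sq _ (hc _ (mul_mem az hu) (mem_cent1_iff_conj.2 (by
    rw [show a * u * t * (a * u)⁻¹ = a * (u * t * u⁻¹) * a⁻¹ by group, h7, ← conj_mul, h8,
      mem_cent1_iff_conj.1 az, ← mul_assoc, z2, one_mul])))
  have h10 : t ∈ 𝐂[x⁻¹ * u * x⁻¹⁻¹] := by
    rw [cent1_conj, mem_conj, inv_inv, ← ea, mem_cent1, eq_inv_of_mul_eq_one_left h9, mul_inv_rev,
      GW.inv_eq u2, GW.inv_eq (sq a ha)]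
  rcases hs _ (inv_mem hx.1) with e | e <;> rw [e] at h10
  · exact tu h10
  · exact tu (mem_cent1_comm.1 ((mul_mem_cancel_right (mem_cent1_comm.1 tz)).1 (mem_cent1_comm.1 h10)))

theorem Hyp.exists_v4 (h : Hyp G) (hn : ¬ Sol (⊤ : Subgroup G)) :
    ∃ t s ρ : G, GW.V4 ⊤ t s ρ ∧ 𝐂[t] ⊓ 𝐂[s] ≤ GW.S4 t s := by
  obtain ⟨T, d, hT⟩ := h.exists_tb (mt (fun e => sol_of_pnil (pnil_iff_hasNormalPComplement.1 e)) hn)
  have hS := hT.syl h
  have c4 := (hT.card_eq h (hT.card_le_of_syl h hS)).1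
  obtain ⟨t, ht, t1⟩ := exists_mem_ne_one hT.ne
  obtain ⟨s, hs, s1⟩ := SetLike.not_le_iff_exists.1 fun e : T ≤ zpowers t => by
    have := card_le e
    rw [c4, card_zpowers_two t1 (hT.sq t ht)] at this
    omega
  have hp : GW.Pair ⊤ t s := ⟨trivial, trivial, t1, fun e => s1 (e ▸ one_mem _),
    fun e => s1 (e ▸ mem_zpowers t), hT.sq t ht, hT.sq s hs, ab_iff.1 hT.ab _ ht _ hs, fun e => by
      rw [← card_mul_relIndex hS.le, c4] at e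
      have := hS.not_dvd
      omega⟩
  obtain ⟨ρ, hρ⟩ := hp.sdprod_or.resolve_left fun e => hn (hp.sol_of_sdprod e)
  have e := eq_of_le_of_card_le (GW.S4_le.2 ⟨ht, hs⟩) (c4.trans hp.card.symm).le
  exact ⟨t, s, ρ, hρ, by rw [← GW.cent_S4, e]; exact hT.cent⟩

end Cfsg.Agent.MN
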